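import Groth.Agent.S0415
import Groth.Agent.Lib.UnivHomeo.AwayPrime
import Groth.Agent.Lib.UnivHomeo.Morph
import Mathlib.AlgebraicGeometry.Morphisms.IsIso
import Mathlib.Algebra.CharP.Lemmas
import Mathlib.Dynamics.PeriodicPts.Lemmas

/-!
# Universal homeomorphisms of perfect rings
-/

universe u

set_option linter.style.haveILetI false

open CategoryTheory CategoryTheory.Limits AlgebraicGeometry

namespace Groth.Agent.PerfUH12

theorem iterate_pow {R : Type u} [CommRing R] (p n : ℕ) :
    (fun x : R => x ^ p)^[n] = fun x => x ^ p ^ n := by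
  induction n with
  | zero => funext x; simp
  | succ n ih =>
    funext x
    rw [Function.iterate_succ_apply', ih, ← pow_mul, ← pow_succ]

theorem bijective_of_perfect {A B : Type u} [CommRing A] [CommRing B] (p : ℕ) (hp : p.Prime)
    (φ : A →+* B) (h0 : (p : A) = 0) (hA : Function.Bijective fun x : A => x ^ p)
    (hB : Function.Bijective fun x : B => x ^ p)
    (h : FlatMor.IsUnivHomeo (Spec.map (CommRingCat.ofHom φ))) : Function.Bijective φ := by
  have hAn : ∀ n, Function.Bijective fun x : A => x ^ p ^ n := fun n =>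
    iterate_pow (R := A) p n ▸ hA.iterate n
  have hBn : ∀ n, Function.Bijective fun x : B => x ^ p ^ n := fun n =>
    iterate_pow (R := B) p n ▸ hB.iterate n
  have haway : Function.Bijective (Localization.awayMap φ (p : A)) := by
    haveI : Subsingleton (Localization.Away (p : A)) :=
      IsLocalization.subsingleton (M := Submonoid.powers (p : A)) ⟨1, by simp [h0]⟩
    haveI : Subsingleton (Localization.Away (φ (p : A))) :=
      IsLocalization.subsingleton (M := Submonoid.powers (φ (p : A))) ⟨1, by simp [h0]⟩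
    exact ⟨fun x y _ => Subsingleton.elim x y, fun y => ⟨0, Subsingleton.elim _ _⟩⟩
  obtain ⟨hk, hb⟩ := (UH.isUnivHomeo_Spec_iff_away φ p hp haway).1 h
  refine ⟨(injective_iff_map_eq_zero φ).2 fun a ha => ?_, fun b => ?_⟩
  · obtain ⟨n, hn⟩ := hk a ha
    refine (hAn n).injective ?_
    show a ^ p ^ n = (0 : A) ^ p ^ n
    rw [zero_pow (pow_ne_zero _ hp.ne_zero)]
    exact pow_eq_zero_of_le (Nat.lt_pow_self hp.one_lt).le hn
  · obtain ⟨n, -, a, ha⟩ := hb b
    obtain ⟨a', rfl⟩ := (hAn n).surjective a
    refine ⟨a', (hBn n).injective ?_⟩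
    show φ a' ^ p ^ n = b ^ p ^ n
    rw [← map_pow]
    exact ha

end Groth.Agent.PerfUH12
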